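import Mathlib
import Cfsg.Agent.Forms.Witt

/-!
# The Dickson invariant in characteristic two

For a quadratic form `Q` with non-degenerate polar form over a field of characteristic two, the rank of
`g + 1` modulo two changes under multiplication by a reflection.  In dimension at least five over a finite
field the reflections generate the orthogonal group, so this parity is a homomorphism, and the commutator
subgroup is its kernel.  No Clifford algebra is used.
-/

set_option autoImplicit false

namespace CfsgLib.Dickson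

open Module QuadraticMap

variable {F V : Type*} [Field F] [AddCommGroup V] [Module F V] {Q : QuadraticForm F V}

/-- The orthogonal group as linear automorphisms. -/
def orth (Q : QuadraticForm F V) : Subgroup (V ≃ₗ[F] V) where
  carrier := {g | ∀ v, Q (g v) = Q v}
  mul_mem' {a b} ha hb := fun v => by show Q (a (b v)) = Q v; rw [ha, hb]
  one_mem' := fun _ => rfl
  inv_mem' {a} ha := fun v => by
    show Q (a.symm v) = Q v
    rw [← ha (a.symm v), LinearEquiv.apply_symm_apply]

/-- The map `g + 1`. -/
def disp (g : orth Q) : V →ₗ[F] V := (g : V ≃ₗ[F] V).toLinearMap + LinearMap.id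

theorem disp_apply (g : orth Q) (v : V) : disp g v = (g : V ≃ₗ[F] V) v + v := rfl

theorem mul_apply (g h : orth Q) (v : V) :
    ((g * h : orth Q) : V ≃ₗ[F] V) v = (g : V ≃ₗ[F] V) ((h : V ≃ₗ[F] V) v) := rfl

theorem polar_map (g : orth Q) (u v : V) :
    polar Q ((g : V ≃ₗ[F] V) u) ((g : V ≃ₗ[F] V) v) = polar Q u v := by
  simp only [polar, ← map_add, g.2 _]

theorem add_self [CharP F 2] (v : V) : v + v = 0 := by
  rw [← two_smul F v, CharTwo.two_eq_zero, zero_smul]

theorem add_eq_zero_iff [CharP F 2] {u v : V} : u + v = 0 ↔ u = v := by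
  constructor
  · intro h
    calc u = u + (v + v) := by rw [add_self (F := F) v, add_zero]
      _ = v := by rw [← add_assoc, h, zero_add]
  · rintro rfl; exact add_self (F := F) u

theorem polar_self_zero [CharP F 2] (x : V) : polar Q x x = 0 := by
  rw [QuadraticMap.polar_self, two_nsmul, CharTwo.add_self_eq_zero]

theorem map_add_eq (u v : V) : Q (u + v) = Q u + Q v + polar Q u v := by
  simp only [polar]; ring

/-- The orthogonal transvection attached to a vector `x` with `Q x = 1`. -/
noncomputable def refl [CharP F 2] (x : V) (hx : Q x = 1) : orth Q := by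
  refine ⟨LinearEquiv.ofInvolutive (LinearMap.id + (QuadraticMap.polarBilin Q x).smulRight x) ?_, ?_⟩
  · intro u
    simp only [LinearMap.add_apply, LinearMap.id_apply, LinearMap.smulRight_apply, map_add,
      map_smul, QuadraticMap.polarBilin_apply_apply, polar_self_zero, smul_zero, add_zero,
      smul_eq_mul, mul_zero, zero_smul]
    rw [add_assoc, add_self (F := F), add_zero]
  · intro u
    show Q (u + (polar Q x u) • x) = Q u
    rw [map_add_eq, QuadraticMap.map_smul, hx, QuadraticMap.polar_smul_right, polar_comm Q u x,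
      smul_eq_mul, smul_eq_mul, mul_one, add_assoc, CharTwo.add_self_eq_zero, add_zero]

theorem refl_apply [CharP F 2] (x : V) (hx : Q x = 1) (u : V) :
    ((refl x hx : orth Q) : V ≃ₗ[F] V) u = u + polar Q x u • x := rfl

theorem refl_mul_self [CharP F 2] (x : V) (hx : Q x = 1) : refl x hx * refl (Q := Q) x hx = 1 := by
  apply Subtype.ext
  apply LinearEquiv.ext
  intro u
  rw [mul_apply, refl_apply, refl_apply, QuadraticMap.polar_add_right, QuadraticMap.polar_smul_right,
    polar_self_zero, smul_zero, add_zero, add_assoc, add_self (F := F), add_zero]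
  rfl

theorem conj_refl [CharP F 2] (g : orth Q) (x : V) (hx : Q x = 1) :
    g * refl x hx * g⁻¹ = refl ((g : V ≃ₗ[F] V) x) (by rw [g.2, hx]) := by
  rw [mul_inv_eq_iff_eq_mul]
  apply Subtype.ext
  apply LinearEquiv.ext
  intro u
  rw [mul_apply, mul_apply, refl_apply, refl_apply, map_add, map_smul, polar_map]

/-- The parity of the rank of `g + 1`. -/
noncomputable def parity (g : orth Q) : ZMod 2 := (finrank F (LinearMap.range (disp g)) : ZMod 2)

section
variable [CharP F 2] [FiniteDimensional F V]

omit [CharP F 2] in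
theorem polar_surjective (hQ : (polarBilin Q).Nondegenerate) (φ : V →ₗ[F] F) :
    ∃ k, ∀ v, polar Q k v = φ v := by
  have hinj : Function.Injective (polarBilin Q) := by
    rw [← LinearMap.ker_eq_bot, LinearMap.ker_eq_bot']
    exact fun x hx => hQ.1 x fun y => by simp [hx]
  obtain ⟨k, hk⟩ := (LinearMap.injective_iff_surjective_of_finrank_eq_finrank
    (Subspace.dual_finrank_eq (K := F) (V := V)).symm).1 hinj φ
  exact ⟨k, fun v => by rw [← hk]; rfl⟩

theorem polar_disp_of_fixed (g : orth Q) {k : V} (hk : disp g k = 0) (u : V) :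
    polar Q k (disp g u) = 0 := by
  rw [disp_apply, QuadraticMap.polar_add_right]
  have h : polar Q k ((g : V ≃ₗ[F] V) u) = polar Q k u := by
    have hk' : (g : V ≃ₗ[F] V) k = k := (add_eq_zero_iff (F := F)).1 (by rw [← disp_apply]; exact hk)
    calc polar Q k ((g : V ≃ₗ[F] V) u)
        = polar Q ((g : V ≃ₗ[F] V) k) ((g : V ≃ₗ[F] V) u) := by rw [hk']
      _ = polar Q k u := polar_map g k u
  rw [h, CharTwo.add_self_eq_zero]

theorem fixed_of_polar_disp (hQ : (polarBilin Q).Nondegenerate) (g : orth Q) {k : V}
    (hk : ∀ u, polar Q k (disp g u) = 0) : disp g k = 0 := by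
  refine hQ.1 _ fun y => ?_
  show polar Q (disp g k) y = 0
  obtain ⟨u, rfl⟩ := (g : V ≃ₗ[F] V).surjective y
  rw [disp_apply, QuadraticMap.polar_add_left, polar_map]
  have h := hk u
  rw [disp_apply, QuadraticMap.polar_add_right] at h
  rw [add_comm]
  exact h

theorem exists_fixed_polar_eq_one (hQ : (polarBilin Q).Nondegenerate) (g : orth Q) {x : V}
    (hx : x ∉ LinearMap.range (disp g)) : ∃ k, disp g k = 0 ∧ polar Q k x = 1 := by
  obtain ⟨φ, hφx, hφ⟩ := Submodule.exists_dual_map_eq_bot_of_notMem hx inferInstance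
  obtain ⟨k, hk⟩ := polar_surjective hQ ((φ x)⁻¹ • φ)
  refine ⟨k, fixed_of_polar_disp hQ g fun u => ?_, ?_⟩
  · rw [hk]
    have : φ (disp g u) = 0 := by
      rw [← Submodule.mem_bot F, ← hφ]
      exact Submodule.mem_map_of_mem (LinearMap.mem_range_self _ u)
    simp [this]
  · rw [hk]; simp [hφx]

theorem disp_mul_refl (g : orth Q) (x : V) (hx : Q x = 1) (u : V) :
    disp (g * refl x hx) u = disp g u + polar Q x u • (g : V ≃ₗ[F] V) x := by
  rw [disp_apply, disp_apply, mul_apply, refl_apply, map_add, map_smul]
  abel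

theorem range_mul_refl_of_notMem (hQ : (polarBilin Q).Nondegenerate) (g : orth Q) (x : V)
    (hx : Q x = 1) (hxR : x ∉ LinearMap.range (disp g)) :
    LinearMap.range (disp (g * refl x hx)) =
      LinearMap.range (disp g) ⊔ Submodule.span F {(g : V ≃ₗ[F] V) x} ∧
    finrank F (LinearMap.range (disp (g * refl x hx))) = finrank F (LinearMap.range (disp g)) + 1 := by
  obtain ⟨k, hk, hkx⟩ := exists_fixed_polar_eq_one hQ g hxR
  set R := LinearMap.range (disp g) with hR
  set y := (g : V ≃ₗ[F] V) x with hy
  have hyR : y ∉ R := by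
    intro h
    apply hxR
    have h2 : x = y + disp g x := by
      rw [disp_apply, ← hy, ← add_assoc, add_self (F := F), zero_add]
    rw [h2]
    exact R.add_mem h (LinearMap.mem_range_self _ x)
  have heq : LinearMap.range (disp (g * refl x hx)) = R ⊔ Submodule.span F {y} := by
    apply le_antisymm
    · rintro _ ⟨u, rfl⟩
      rw [disp_mul_refl]
      exact Submodule.add_mem_sup (LinearMap.mem_range_self _ u)
        (Submodule.smul_mem _ _ (Submodule.mem_span_singleton_self y))
    · have hy' : y ∈ LinearMap.range (disp (g * refl x hx)) :=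
        ⟨k, by rw [disp_mul_refl, hk, polar_comm, hkx, one_smul, zero_add]⟩
      refine sup_le ?_ ((Submodule.span_singleton_le_iff_mem _ _).2 hy')
      rintro _ ⟨u, rfl⟩
      have h : disp g u = disp (g * refl x hx) u + polar Q x u • y := by
        rw [disp_mul_refl, ← hy, add_assoc, add_self (F := F), add_zero]
      rw [h]
      exact Submodule.add_mem _ (LinearMap.mem_range_self _ u) (Submodule.smul_mem _ _ hy')
  refine ⟨heq, ?_⟩
  rw [heq]
  have hy0 : y ≠ 0 := fun h => hyR (h ▸ R.zero_mem)
  have h := Submodule.finrank_sup_add_finrank_inf_eq R (Submodule.span F {y})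
  rw [disjoint_iff.1 (Submodule.disjoint_span_singleton_of_notMem hyR), finrank_bot,
    finrank_span_singleton hy0] at h
  omega

theorem ker_mul_refl_of_mem (g : orth Q) (x z : V) (hx : Q x = 1) (hz : disp g z = x) :
    disp (g * refl x hx) ((g : V ≃ₗ[F] V) z) = 0 ∧
    finrank F (LinearMap.range (disp (g * refl x hx))) + 1 = finrank F (LinearMap.range (disp g)) := by
  set e := (g : V ≃ₗ[F] V)
  have hgzz : polar Q (e z) z = 1 := by
    have h := map_add_eq (Q := Q) (e z) z
    rw [← disp_apply, hz, hx, g.2, CharTwo.add_self_eq_zero, zero_add] at h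
    exact h.symm
  have hxgz : polar Q x (e z) = 1 := by
    rw [← hz, disp_apply, QuadraticMap.polar_add_left, polar_self_zero, zero_add, polar_comm, hgzz]
  have hNgz : disp g (e z) = e x := by rw [disp_apply, ← map_add, ← disp_apply, hz]
  have hker : disp (g * refl x hx) (e z) = 0 := by
    rw [disp_mul_refl, hNgz, hxgz, one_smul, add_self (F := F)]
  refine ⟨hker, ?_⟩
  have heq : LinearMap.ker (disp (g * refl x hx)) =
      LinearMap.ker (disp g) ⊔ Submodule.span F {e z} := by
    apply le_antisymm
    · intro u hu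
      rw [LinearMap.mem_ker, disp_mul_refl, add_eq_zero_iff (F := F)] at hu
      have h : u = (u + polar Q x u • e z) + polar Q x u • e z := by
        rw [add_assoc, add_self (F := F), add_zero]
      rw [h]
      refine Submodule.add_mem_sup ?_ (Submodule.smul_mem _ _ (Submodule.mem_span_singleton_self _))
      rw [LinearMap.mem_ker, map_add, map_smul, hNgz, hu, add_self (F := F)]
    · refine sup_le ?_ ((Submodule.span_singleton_le_iff_mem _ _).2 hker)
      intro u hu
      rw [LinearMap.mem_ker] at hu ⊢
      have h := polar_disp_of_fixed g hu z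
      rw [hz, polar_comm] at h
      rw [disp_mul_refl, hu, h, zero_smul, add_zero]
  have hx0 : x ≠ 0 := by rintro rfl; simp at hx
  have hnot : e z ∉ LinearMap.ker (disp g) := by
    rw [LinearMap.mem_ker, hNgz]
    exact fun h => hx0 (e.map_eq_zero_iff.1 h)
  have hz0 : e z ≠ 0 := fun h => hnot (h ▸ Submodule.zero_mem _)
  have h := Submodule.finrank_sup_add_finrank_inf_eq (LinearMap.ker (disp g)) (Submodule.span F {e z})
  rw [disjoint_iff.1 (Submodule.disjoint_span_singleton_of_notMem hnot), finrank_bot,
    finrank_span_singleton hz0, ← heq] at h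
  have h1 := LinearMap.finrank_range_add_finrank_ker (disp g)
  have h2 := LinearMap.finrank_range_add_finrank_ker (disp (g * refl x hx))
  omega

theorem parity_mul_refl (hQ : (polarBilin Q).Nondegenerate) (g : orth Q) (x : V) (hx : Q x = 1) :
    parity (g * refl x hx) = parity g + 1 := by
  unfold parity
  by_cases hxR : x ∈ LinearMap.range (disp g)
  · obtain ⟨z, hz⟩ := hxR
    rw [← (ker_mul_refl_of_mem g x z hx hz).2, Nat.cast_add, Nat.cast_one, add_assoc,
      CharTwo.add_self_eq_zero, add_zero]
  · rw [(range_mul_refl_of_notMem hQ g x hx hxR).2, Nat.cast_add, Nat.cast_one]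

omit [FiniteDimensional F V] in
theorem parity_one : parity (1 : orth Q) = 0 := by
  have : disp (1 : orth Q) = 0 := LinearMap.ext fun v => add_self (F := F) v
  rw [parity, this, LinearMap.range_zero, finrank_bot, Nat.cast_zero]

variable [Finite F]

omit [FiniteDimensional F V] in
theorem exists_scaled {v : V} (hv : Q v ≠ 0) : ∃ c : F, Q (c • v) = 1 := by
  haveI : Fact (Nat.Prime 2) := ⟨Nat.prime_two⟩
  refine ⟨(frobeniusEquiv F 2).symm (Q v)⁻¹, ?_⟩
  rw [QuadraticMap.map_smul, smul_eq_mul, ← pow_two, frobeniusEquiv_symm_pow_p (R := F) 2,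
    inv_mul_cancel₀ hv]

/-- The subgroup generated by the orthogonal transvections. -/
noncomputable def reflGroup (Q : QuadraticForm F V) : Subgroup (orth Q) :=
  Subgroup.closure {r | ∃ x, ∃ hx : Q x = 1, r = refl x hx}

/-- Hypotheses under which the orthogonal transvections generate: only `O⁺₄(2)` is left out. -/
def ReflGen (Q : QuadraticForm F V) : Prop :=
  5 ≤ finrank F V ∨ (∃ c : F, c ≠ 0 ∧ c ≠ 1) ∨
    ∀ W : Submodule F V, (∀ v ∈ W, Q v = 0) → finrank F W ≤ 1

omit [FiniteDimensional F V] [Finite F] in
theorem refl_mem (x : V) (hx : Q x = 1) : refl x hx ∈ reflGroup Q :=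
  Subgroup.subset_closure ⟨x, hx, rfl⟩

theorem exists_start (hQ : (polarBilin Q).Nondegenerate) (g : orth Q)
    (hsing : ∀ v ∈ LinearMap.range (disp g), Q v = 0) (hne : LinearMap.range (disp g) ≠ ⊥) :
    2 ≤ finrank F (LinearMap.range (disp g)) ∧ ∃ x, Q x = 1 ∧
      1 ≤ finrank F ↥(LinearMap.range (disp g) ⊓ LinearMap.ker (polarBilin Q ((g : V ≃ₗ[F] V) x))) ∧
      (5 ≤ finrank F V → 2 ≤ finrank F ↥(LinearMap.range (disp g) ⊓
        LinearMap.ker (polarBilin Q ((g : V ≃ₗ[F] V) x)))) := by
  set R := LinearMap.range (disp g) with hR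
  have hfix : ∀ w ∈ R, disp g w = 0 := fun w hw => fixed_of_polar_disp hQ g fun u => by
    have h := map_add_eq (Q := Q) w (disp g u)
    rw [hsing _ (R.add_mem hw (LinearMap.mem_range_self _ u)), hsing _ hw,
      hsing _ (LinearMap.mem_range_self _ u), zero_add, zero_add] at h
    exact h.symm
  have h2 : 2 ≤ finrank F R := by
    by_contra h
    obtain ⟨w, hwR, hw0⟩ := Submodule.exists_mem_ne_zero_of_ne_bot hne
    have hspan : R = Submodule.span F {w} := by
      refine (Submodule.eq_of_le_of_finrank_le ((Submodule.span_singleton_le_iff_mem _ _).2 hwR) ?_).symm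
      rw [finrank_span_singleton hw0]; omega
    obtain ⟨u, hu⟩ : ∃ u, polar Q u w ≠ 0 := by
      by_contra h'
      exact hw0 (hQ.2 w fun u => not_not.1 fun hu => h' ⟨u, hu⟩)
    have hmem : disp g u ∈ R := LinearMap.mem_range_self _ u
    rw [hspan, Submodule.mem_span_singleton] at hmem
    obtain ⟨c, hc⟩ := hmem
    have hgu : (g : V ≃ₗ[F] V) u = u + c • w := by
      rw [hc, disp_apply, add_comm, add_assoc, add_self (F := F), add_zero]
    have hQu := g.2 u
    rw [hgu, map_add_eq, QuadraticMap.map_smul, hsing w hwR, smul_zero, add_zero,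
      QuadraticMap.polar_smul_right, add_eq_left, smul_eq_mul] at hQu
    rcases mul_eq_zero.1 hQu with rfl | h0
    · rw [zero_smul] at hc
      obtain ⟨z, rfl⟩ := hwR
      exact hu (polar_disp_of_fixed g hc.symm z)
    · exact hu h0
  have hker := LinearMap.finrank_range_add_finrank_ker (disp g)
  refine ⟨h2, ?_⟩
  by_cases h3 : 3 ≤ finrank F R ∨ finrank F V < 5
  · obtain ⟨v, hv⟩ : ∃ v, Q v ≠ 0 := by
      by_contra h
      have hz : ∀ v, Q v = 0 := fun v => not_not.1 fun hv => h ⟨v, hv⟩
      obtain ⟨w, hwR, hw0⟩ := Submodule.exists_mem_ne_zero_of_ne_bot hne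
      exact hw0 (hQ.1 w fun y => by simp [polar, hz])
    obtain ⟨c, hc⟩ := exists_scaled hv
    refine ⟨_, hc, ?_⟩
    set φ := polarBilin Q ((g : V ≃ₗ[F] V) (c • v)) with hφ
    have h := LinearMap.finrank_range_add_finrank_ker (φ.domRestrict R)
    have h' : finrank F (LinearMap.range (φ.domRestrict R)) ≤ 1 :=
      le_trans (Submodule.finrank_le _) (Module.finrank_self F).le
    have h'' : finrank F (LinearMap.ker (φ.domRestrict R)) ≤ finrank F ↥(R ⊓ LinearMap.ker φ) := by
      rw [← Submodule.finrank_map_subtype_eq R]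
      refine Submodule.finrank_mono ?_
      rintro _ ⟨a, ha, rfl⟩
      exact ⟨a.2, ha⟩
    exact ⟨by omega, fun h5 => by omega⟩
  · obtain ⟨v, hvK, hv⟩ : ∃ v, disp g v = 0 ∧ Q v ≠ 0 := by
      by_contra h
      have hz : ∀ v ∈ LinearMap.ker (disp g), Q v = 0 :=
        fun v hv => not_not.1 fun hv' => h ⟨v, hv, hv'⟩
      have hle : LinearMap.ker (disp g) ≤ R := by
        intro x hx
        by_contra hxR
        obtain ⟨k, hk, hkx⟩ := exists_fixed_polar_eq_one hQ g hxR
        simp only [polar, hz _ hx, hz _ hk, hz _ (Submodule.add_mem _ (LinearMap.mem_ker.2 hk) hx)] at hkx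
        simp at hkx
      have := Submodule.finrank_mono hle
      rw [← hR] at hker
      omega
    obtain ⟨c, hc⟩ := exists_scaled hv
    refine ⟨_, hc, ?_⟩
    have hgx : (g : V ≃ₗ[F] V) (c • v) = c • v :=
      (add_eq_zero_iff (F := F)).1 (by rw [← disp_apply, map_smul, hvK, smul_zero])
    rw [inf_eq_left.2]
    · exact ⟨by omega, fun _ => h2⟩
    · rintro _ ⟨u, rfl⟩
      rw [LinearMap.mem_ker, hgx]
      exact polar_disp_of_fixed g (by rw [map_smul, hvK, smul_zero]) u

theorem reflGroup_eq_top' (hQ : (polarBilin Q).Nondegenerate) (hG : ReflGen Q) :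
    reflGroup Q = ⊤ := by
  suffices ∀ (n : ℕ) (g : orth Q), finrank F (LinearMap.range (disp g)) = n → g ∈ reflGroup Q from
    (Subgroup.eq_top_iff' _).2 fun g => this _ g rfl
  intro n
  induction n using Nat.strong_induction_on with
  | _ n ih =>
    intro g hn
    have step : ∀ h : orth Q, finrank F (LinearMap.range (disp h)) ≤ n →
        (∃ v ∈ LinearMap.range (disp h), Q v ≠ 0) → h ∈ reflGroup Q := by
      intro h hh ⟨v, hv, hQv⟩
      obtain ⟨c, hc⟩ := exists_scaled hQv
      obtain ⟨z, hz⟩ := Submodule.smul_mem _ c hv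
      have h2 := (ker_mul_refl_of_mem h _ z hc hz).2
      have h3 := ih _ (by omega) (h * refl _ hc) rfl
      have : h = h * refl _ hc * refl _ hc := by rw [mul_assoc, refl_mul_self, mul_one]
      rw [this]
      exact mul_mem h3 (refl_mem _ hc)
    by_cases hne : LinearMap.range (disp g) = ⊥
    · have : g = 1 := Subtype.ext (LinearEquiv.ext fun v => by
        have h := LinearMap.mem_range_self (disp g) v
        rw [hne, Submodule.mem_bot, disp_apply, add_eq_zero_iff (F := F)] at h
        exact h)
      rw [this]; exact one_mem _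
    by_cases hsing : ∃ v ∈ LinearMap.range (disp g), Q v ≠ 0
    · exact step g hn.le hsing
    have hsing' : ∀ v ∈ LinearMap.range (disp g), Q v = 0 :=
      fun v hv => not_not.1 fun h => hsing ⟨v, hv, h⟩
    obtain ⟨hR2, x, hx, hR1, hR5⟩ := exists_start hQ g hsing' hne
    set R := LinearMap.range (disp g) with hR
    set y := (g : V ≃ₗ[F] V) x with hy
    have hxR : x ∉ R := fun h => by
      have := hsing' x h
      rw [hx] at this
      exact one_ne_zero this
    obtain ⟨hR', hR'd⟩ := range_mul_refl_of_notMem hQ g x hx hxR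
    set h := g * refl x hx with hh
    set R' := LinearMap.range (disp h) with hR'def
    rw [← hy, ← hR] at hR'
    rw [← hR, hn] at hR'd
    have hQy : Q y = 1 := by rw [hy, g.2, hx]
    have hs : ∀ w ∈ R ⊓ LinearMap.ker (polarBilin Q y), Q (y + w) = 1 := by
      intro w hw
      have h0 : polar Q y w = 0 := hw.2
      rw [map_add_eq, hQy, hsing' w hw.1, h0, add_zero, add_zero]
    have hyR' : y ∈ R' := by rw [hR']; exact Submodule.mem_sup_right (Submodule.mem_span_singleton_self y)
    have hRR' : R ≤ R' := by rw [hR']; exact le_sup_left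
    let T : Submodule F V :=
      { carrier := {v | ∃ c, v + c • y ∈ R ∧ polar Q v y = c}
        zero_mem' := ⟨0, by simp, by simp [polar]⟩
        add_mem' := by
          rintro a b ⟨c, hc, hc'⟩ ⟨d, hd, hd'⟩
          refine ⟨c + d, ?_, by rw [QuadraticMap.polar_add_left, hc', hd']⟩
          have : a + b + (c + d) • y = (a + c • y) + (b + d • y) := by rw [add_smul]; abel
          rw [this]; exact R.add_mem hc hd
        smul_mem' := by
          rintro t a ⟨c, hc, hc'⟩
          refine ⟨t * c, ?_, by rw [QuadraticMap.polar_smul_left, hc', smul_eq_mul]⟩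
          have : t • a + (t * c) • y = t • (a + c • y) := by rw [smul_add, smul_smul]
          rw [this]; exact R.smul_mem t hc }
    have hTle : T ≤ R' := by
      rintro v ⟨c, hc, -⟩
      have : v = (v + c • y) + c • y := by rw [add_assoc, add_self (F := F), add_zero]
      rw [this]
      exact R'.add_mem (hRR' hc) (R'.smul_mem c hyR')
    have hyT : y ∉ T := by
      rintro ⟨c, hc, hc'⟩
      rw [polar_self_zero] at hc'
      subst hc'
      rw [zero_smul, add_zero] at hc
      have := hsing' y hc
      rw [hQy] at this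
      exact one_ne_zero this
    have hTd : finrank F T ≤ n := by
      have := Submodule.finrank_lt_finrank_of_lt (lt_of_le_of_ne hTle (fun e => hyT (e ▸ hyR')))
      omega
    -- the candidates
    by_cases good : ∃ w ∈ R ⊓ LinearMap.ker (polarBilin Q y), ∃ hw : Q (y + w) = 1,
        ∃ v ∈ LinearMap.range (disp (h * refl _ hw)), Q v ≠ 0
    · obtain ⟨w, hwmem, hw, hv⟩ := good
      have hmem : y + w ∈ R' := R'.add_mem hyR' (hRR' hwmem.1)
      obtain ⟨z, hz⟩ := hmem
      have hd := (ker_mul_refl_of_mem h _ z hw hz).2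
      have hd' : finrank F (LinearMap.range (disp h)) = n + 1 := hR'd
      have h1 := step _ (by omega) hv
      have : g = h * refl _ hw * refl _ hw * refl x hx := by
        rw [mul_assoc h, refl_mul_self, mul_one, hh, mul_assoc, refl_mul_self, mul_one]
      rw [this]
      exact mul_mem (mul_mem h1 (refl_mem _ hw)) (refl_mem x hx)
    exfalso
    have hH : ∀ w ∈ R ⊓ LinearMap.ker (polarBilin Q y), ∃ H, ((H = R ∨ H = T) ∧ n ≤ finrank F H) ∧
        ∀ u, disp h u ∈ H → polar Q u (y + w) = 0 := by
      intro w hwmem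
      have hw := hs w hwmem
      have hmem : y + w ∈ R' := R'.add_mem hyR' (hRR' hwmem.1)
      obtain ⟨z, hz⟩ := hmem
      obtain ⟨hk, hd⟩ := ker_mul_refl_of_mem h _ z hw hz
      have hd' : finrank F (LinearMap.range (disp h)) = n + 1 := hR'd
      set H := LinearMap.range (disp (h * refl _ hw)) with hHdef
      refine ⟨H, ?_, ?_⟩
      · have hHle : H ≤ R' := by
          rintro _ ⟨u, rfl⟩
          rw [disp_mul_refl]
          refine R'.add_mem (LinearMap.mem_range_self _ u) (R'.smul_mem _ ?_)
          have hmem' : y + w ∈ R' := R'.add_mem hyR' (hRR' hwmem.1)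
          have : (h : V ≃ₗ[F] V) (y + w) = disp h (y + w) + (y + w) := by
            rw [disp_apply, add_assoc, add_self (F := F), add_zero]
          rw [this]
          exact R'.add_mem (LinearMap.mem_range_self _ _) hmem'
        have hHs : ∀ v ∈ H, Q v = 0 := fun v hv => not_not.1 fun hne' => good ⟨w, hwmem, hw, v, hv, hne'⟩
        have hcases : ∀ v ∈ H, v ∈ R ∨ v ∈ T := by
          intro v hv
          have hv' := hHle hv
          rw [hR', Submodule.mem_sup] at hv'
          obtain ⟨a, ha, b, hb, rfl⟩ := hv'
          obtain ⟨c, rfl⟩ := Submodule.mem_span_singleton.1 hb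
          by_cases hc : c = 0
          · exact Or.inl (by simp [hc, ha])
          refine Or.inr ⟨c, ?_, ?_⟩
          · rw [add_assoc, add_self (F := F), add_zero]; exact ha
          · have h0 := hHs _ hv
            rw [map_add_eq, hsing' a ha, QuadraticMap.map_smul, hQy, QuadraticMap.polar_smul_right,
              smul_eq_mul, smul_eq_mul, mul_one, zero_add, ← mul_add] at h0
            rw [QuadraticMap.polar_add_left, QuadraticMap.polar_smul_left, polar_self_zero, smul_zero,
              add_zero]
            exact (CharTwo.add_eq_zero.1 ((mul_eq_zero.1 h0).resolve_left hc)).symm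
        have hle : H ≤ R ∨ H ≤ T := by
          by_contra hcon
          rw [not_or] at hcon
          obtain ⟨a, ha, haR⟩ := SetLike.not_le_iff_exists.1 hcon.1
          obtain ⟨b, hb, hbT⟩ := SetLike.not_le_iff_exists.1 hcon.2
          have haT := (hcases a ha).resolve_left haR
          have hbR := (hcases b hb).resolve_right hbT
          rcases hcases _ (H.add_mem ha hb) with h' | h'
          · exact haR (by simpa using R.sub_mem h' hbR)
          · exact hbT (by simpa using T.sub_mem h' haT)
        refine ⟨?_, by omega⟩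
        rcases hle with hle | hle
        · exact Or.inl (Submodule.eq_of_le_of_finrank_le hle (by omega))
        · exact Or.inr (Submodule.eq_of_le_of_finrank_le hle (by omega))
      · rintro u ⟨u', hu'⟩
        have h0 := polar_disp_of_fixed (h * refl _ hw) hk u'
        rw [hu', disp_apply, QuadraticMap.polar_add_right, polar_map] at h0
        rw [← hz, disp_apply, QuadraticMap.polar_add_right, polar_comm Q u, polar_comm Q u z, add_comm]
        exact h0
    set R0 := R ⊓ LinearMap.ker (polarBilin Q y) with hR0def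
    obtain ⟨a, b, ha0, hb0, hab'⟩ :
        ∃ a b : R0, (a : V) ≠ 0 ∧ (b : V) ≠ 0 ∧ (a : V) ≠ b := by
      obtain ⟨a, ha⟩ : ∃ a : R0, a ≠ 0 := by
        have : Nontrivial R0 := Module.nontrivial_of_finrank_pos (R := F) (by omega)
        exact exists_ne 0
      have ha' : (a : V) ≠ 0 := fun e => ha (Subtype.ext e)
      rcases hG with h5 | ⟨c, hc0, hc1⟩ | hW
      · obtain ⟨f, hf⟩ := exists_linearIndependent_of_le_finrank (R := F) (M := R0) (hR5 h5)
        refine ⟨f 0, f 1, fun e => hf.ne_zero 0 (Subtype.ext e), fun e => hf.ne_zero 1 (Subtype.ext e),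
          fun e => absurd (hf.injective (a₁ := 0) (a₂ := 1) (Subtype.ext e)) (by decide)⟩
      · refine ⟨a, c • a, ha', fun e => ?_, fun e => ?_⟩
        · exact (smul_ne_zero hc0 ha') e
        · refine hc1 (smul_left_injective F ha' ?_)
          show c • (a : V) = (1 : F) • (a : V)
          rw [one_smul]; exact e.symm
      · exact absurd (hW R hsing') (by omega)
    have key : ∀ w w' : V, w ∈ R0 → w' ∈ R0 → ∀ H, ((H = R ∨ H = T) ∧ n ≤ finrank F H) →
        (∀ u, disp h u ∈ H → polar Q u (y + w) = 0) →
        (∀ u, disp h u ∈ H → polar Q u (y + w') = 0) → w = w' := by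
      intro w w' hwm hwm' H hHe h1 h2
      obtain ⟨hHe, hHn⟩ := hHe
      have hHle : H ≤ R' := by rcases hHe with rfl | rfl <;> assumption
      set A := Submodule.comap (disp h) H with hA
      have hsne : y + w ≠ 0 := fun e => by
        have := hs w hwm
        rw [e, map_zero] at this
        exact zero_ne_one this
      obtain ⟨u0, hu0⟩ : ∃ u0, polar Q u0 (y + w) ≠ 0 := by
        by_contra h'
        exact hsne (hQ.2 _ fun u => not_not.1 fun hu => h' ⟨u, hu⟩)
      obtain ⟨c0, hc0⟩ : ∃ u, polar Q u (y + w) = 1 :=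
        ⟨(polar Q u0 (y + w))⁻¹ • u0, by rw [QuadraticMap.polar_smul_left, smul_eq_mul, inv_mul_cancel₀ hu0]⟩
      set φ := (polarBilin Q).flip (y + w) with hφ
      have hAle : A ≤ LinearMap.ker φ := fun u hu => h1 u hu
      have hAd : finrank F (LinearMap.ker φ) ≤ finrank F A := by
        have e1 := LinearMap.finrank_range_add_finrank_ker φ
        have e2 : LinearMap.range φ = ⊤ := by
          rw [eq_top_iff]
          exact fun r _ => ⟨r • c0, by
            show polar Q (r • c0) (y + w) = r
            rw [QuadraticMap.polar_smul_left, hc0, smul_eq_mul, mul_one]⟩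
        rw [e2, finrank_top, Module.finrank_self] at e1
        have e3 := LinearMap.finrank_range_add_finrank_ker (disp h)
        have e4 : finrank F (LinearMap.range (disp h)) = n + 1 := hR'd
        have e5 := LinearMap.finrank_range_add_finrank_ker ((disp h).domRestrict A)
        have e6 : LinearMap.range ((disp h).domRestrict A) = H := by
          apply le_antisymm
          · rintro _ ⟨u, rfl⟩; exact u.2
          · intro v hv
            obtain ⟨u, hu⟩ := hHle hv
            exact ⟨⟨u, by show disp h u ∈ H; rwa [hu]⟩, hu⟩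
        have e7 : finrank F (LinearMap.ker (disp h)) ≤ finrank F (LinearMap.ker ((disp h).domRestrict A)) := by
          let ι' : LinearMap.ker (disp h) →ₗ[F] LinearMap.ker ((disp h).domRestrict A) :=
            { toFun := fun u => ⟨⟨u.1, by show disp h u.1 ∈ H; rw [LinearMap.mem_ker.1 u.2]; exact H.zero_mem⟩, u.2⟩
              map_add' := fun _ _ => rfl
              map_smul' := fun _ _ => rfl }
          exact LinearMap.finrank_le_finrank_of_injective (f := ι') fun u v e => Subtype.ext (congrArg (fun z : LinearMap.ker ((disp h).domRestrict A) => (z.1.1 : V)) e)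
        rw [e6] at e5
        omega
      have hAeq : A = LinearMap.ker φ := Submodule.eq_of_le_of_finrank_le hAle hAd
      set c := polar Q c0 (y + w') with hc
      have hsc : y + w' = c • (y + w) := by
        rw [← sub_eq_zero]
        refine hQ.2 _ fun u => ?_
        show polar Q u (y + w' - c • (y + w)) = 0
        rw [QuadraticMap.polar_sub_right, QuadraticMap.polar_smul_right, smul_eq_mul]
        have hm : u - polar Q u (y + w) • c0 ∈ A := by
          rw [hAeq, LinearMap.mem_ker]
          show polar Q (u - polar Q u (y + w) • c0) (y + w) = 0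
          rw [QuadraticMap.polar_sub_left, QuadraticMap.polar_smul_left, hc0, smul_eq_mul, mul_one, sub_self]
        have := h2 _ hm
        rw [QuadraticMap.polar_sub_left, QuadraticMap.polar_smul_left, smul_eq_mul, ← hc] at this
        linear_combination this
      have hq := congrArg Q hsc
      rw [QuadraticMap.map_smul, hs w' hwm', hs w hwm, smul_eq_mul, mul_one] at hq
      have hc1 : c = 1 := CharTwo.sq_inj.1 (by rw [pow_two, ← hq, one_pow])
      rw [hc1, one_smul] at hsc
      exact (add_left_cancel hsc).symm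
    obtain ⟨H0, hH0, h0⟩ := hH 0 (R0.zero_mem)
    obtain ⟨H1, hH1, h1⟩ := hH a a.2
    obtain ⟨H2, hH2, h2⟩ := hH b b.2
    have e01 : H0 ≠ H1 := fun e => ha0 (key 0 a R0.zero_mem a.2 H0 hH0 h0 (e ▸ h1)).symm
    have e02 : H0 ≠ H2 := fun e => hb0 (key 0 b R0.zero_mem b.2 H0 hH0 h0 (e ▸ h2)).symm
    have e12 : H1 ≠ H2 := fun e => hab' (key a b a.2 b.2 H1 hH1 h1 (e ▸ h2))
    rcases hH0.1 with rfl | rfl <;> rcases hH1.1 with rfl | rfl <;> rcases hH2.1 with rfl | rfl <;>
      first | exact e01 rfl | exact e02 rfl | exact e12 rfl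

theorem reflGroup_eq_top (hQ : (polarBilin Q).Nondegenerate) (h5 : 5 ≤ finrank F V) :
    reflGroup Q = ⊤ := reflGroup_eq_top' hQ (Or.inl h5)

theorem parity_mul' (hQ : (polarBilin Q).Nondegenerate) (hG : ReflGen Q) (g h : orth Q) :
    parity (g * h) = parity g + parity h := by
  have key : ∀ k, k ∈ reflGroup Q → ∀ g : orth Q, parity (g * k) = parity g + parity k := by
    intro k hk
    refine Subgroup.closure_induction (p := fun k _ => ∀ g : orth Q, parity (g * k) = parity g + parity k)
      ?_ ?_ ?_ ?_ hk
    · rintro _ ⟨x, hx, rfl⟩ g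
      have h1 := parity_mul_refl hQ 1 x hx
      rw [one_mul, parity_one, zero_add] at h1
      rw [parity_mul_refl hQ, h1]
    · intro g; simp [parity_one]
    · intro a b _ _ ha hb g
      rw [← mul_assoc, hb, ha, hb a, add_assoc]
    · intro a _ ha g
      have h1 := ha (g * a⁻¹)
      have h2 := ha a⁻¹
      rw [inv_mul_cancel_right] at h1
      rw [inv_mul_cancel, parity_one] at h2
      linear_combination h2 - h1
  exact key h (by rw [reflGroup_eq_top' hQ hG]; trivial) g

theorem parity_mul (hQ : (polarBilin Q).Nondegenerate) (h5 : 5 ≤ finrank F V) (g h : orth Q) :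
    parity (g * h) = parity g + parity h := parity_mul' hQ (Or.inl h5) g h

/-- The Dickson invariant as a homomorphism. -/
noncomputable def dickson (hQ : (polarBilin Q).Nondegenerate) (hG : ReflGen Q) :
    orth Q →* Multiplicative (ZMod 2) where
  toFun g := Multiplicative.ofAdd (parity g)
  map_one' := by rw [parity_one]; rfl
  map_mul' g h := by rw [parity_mul' hQ hG]; rfl

theorem parity_inv' (hQ : (polarBilin Q).Nondegenerate) (hG : ReflGen Q) (g : orth Q) :
    parity g⁻¹ = parity g := by
  have h := parity_mul' hQ hG g g⁻¹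
  rw [mul_inv_cancel, parity_one] at h
  exact (CharTwo.add_eq_zero.1 h.symm).symm

theorem parity_inv (hQ : (polarBilin Q).Nondegenerate) (h5 : 5 ≤ finrank F V) (g : orth Q) :
    parity g⁻¹ = parity g := parity_inv' hQ (Or.inl h5) g

theorem parity_refl (hQ : (polarBilin Q).Nondegenerate) (x : V) (hx : Q x = 1) :
    parity (refl x hx) = 1 := by
  have h1 := parity_mul_refl hQ 1 x hx
  rwa [one_mul, parity_one, zero_add] at h1

/-- The commutator subgroup of the orthogonal group is the kernel of the Dickson invariant. -/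
theorem mem_commutator_iff' (hQ : (polarBilin Q).Nondegenerate) (hG : ReflGen Q) (hpos : 0 < finrank F V)
    (g : orth Q) :
    g ∈ commutator (orth Q) ↔ parity g = 0 := by
  constructor
  · intro h
    have h' := Abelianization.commutator_subset_ker (dickson hQ hG) h
    exact h'
  intro h0
  obtain ⟨x₀, hx₀⟩ : ∃ x, Q x = 1 := by
    have hex : ∃ v, Q v ≠ 0 := by
      by_contra h
      have hz : ∀ v, Q v = 0 := fun v => not_not.1 fun hv => h ⟨v, hv⟩
      have : Nontrivial V := Module.nontrivial_of_finrank_pos (R := F) hpos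
      obtain ⟨w, hw⟩ := exists_ne (0 : V)
      exact hw (hQ.1 w fun y => by simp [polar, hz])
    obtain ⟨v, hv⟩ := hex
    obtain ⟨c, hc⟩ := exists_scaled hv
    exact ⟨_, hc⟩
  let π := Abelianization.of (G := orth Q)
  set a := π (refl x₀ hx₀) with ha
  have hgen : ∀ g, g ∈ reflGroup Q → (parity g = 0 → π g = 1) ∧ (parity g = 1 → π g = a) := by
    intro g hg
    have ha2 : a * a = 1 := by rw [ha, ← map_mul, refl_mul_self, map_one]
    have dich : ∀ k : orth Q, parity k = 0 ∨ parity k = 1 := by
      intro k
      generalize parity k = p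
      revert p; decide
    refine Subgroup.closure_induction (p := fun g _ => (parity g = 0 → π g = 1) ∧ (parity g = 1 → π g = a))
      ?_ ?_ ?_ ?_ hg
    · rintro _ ⟨x, hx, rfl⟩
      have hx0 : x ≠ 0 := by rintro rfl; simp at hx
      have hx₀0 : x₀ ≠ 0 := by rintro rfl; simp at hx₀
      let φ : Submodule.span F {x₀} ≃ₗ[F] Submodule.span F {x} :=
        (LinearEquiv.toSpanNonzeroSingleton F V x₀ hx₀0).symm.trans
          (LinearEquiv.toSpanNonzeroSingleton F V x hx0)
      obtain ⟨k, hk, hkφ⟩ := CfsgLib.Forms.witt_quadratic Q hQ _ _ φ (fun v => by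
        obtain ⟨c, rfl⟩ := (LinearEquiv.toSpanNonzeroSingleton F V x₀ hx₀0).surjective v
        rw [LinearEquiv.trans_apply, LinearEquiv.symm_apply_apply]
        simp only [LinearEquiv.toSpanNonzeroSingleton_apply, QuadraticMap.map_smul, hx, hx₀])
      have hkx : k x₀ = x := by
        have := hkφ ⟨x₀, Submodule.mem_span_singleton_self x₀⟩
        rw [this]
        have e : (⟨x₀, Submodule.mem_span_singleton_self x₀⟩ : Submodule.span F {x₀}) =
            LinearEquiv.toSpanNonzeroSingleton F V x₀ hx₀0 1 := by
          apply Subtype.ext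
          simp [LinearEquiv.toSpanNonzeroSingleton_apply]
        rw [e, LinearEquiv.trans_apply, LinearEquiv.symm_apply_apply]
        simp [LinearEquiv.toSpanNonzeroSingleton_apply]
      have e : refl x hx = (⟨k, hk⟩ : orth Q) * refl x₀ hx₀ * (⟨k, hk⟩ : orth Q)⁻¹ := by
        rw [conj_refl]
        congr 1
        exact hkx.symm
      refine ⟨fun h => absurd ((parity_refl hQ x hx).symm.trans h) (by decide), fun _ => ?_⟩
      rw [e, map_mul, map_mul, map_inv, mul_comm, inv_mul_cancel_left]
    · exact ⟨fun _ => map_one π, fun h => absurd (parity_one.symm.trans h) (by decide)⟩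
    · intro b c _ _ hb hc
      have hp := parity_mul' hQ hG b c
      rcases dich b with eb | eb <;> rcases dich c with ec | ec <;> rw [eb, ec] at hp <;>
        refine ⟨fun h => ?_, fun h => ?_⟩ <;>
        first
        | exact absurd (hp.symm.trans h) (by decide)
        | (rw [map_mul]
           first | rw [hb.1 eb] | rw [hb.2 eb]
           first | rw [hc.1 ec] | rw [hc.2 ec]
           first | rw [mul_one] | rw [one_mul] | rw [ha2])
    · intro b _ hb
      rw [parity_inv' hQ hG, map_inv]
      exact ⟨fun h => by rw [hb.1 h, inv_one], fun h => by rw [hb.2 h, inv_eq_of_mul_eq_one_right ha2]⟩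
  have := (hgen g (by rw [reflGroup_eq_top' hQ hG]; trivial)).1 h0
  rwa [← Abelianization.ker_of, MonoidHom.mem_ker]

theorem mem_commutator_iff (hQ : (polarBilin Q).Nondegenerate) (h5 : 5 ≤ finrank F V) (g : orth Q) :
    g ∈ commutator (orth Q) ↔ parity g = 0 := mem_commutator_iff' hQ (Or.inl h5) (by omega) g

end

end CfsgLib.Dickson
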