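import Mathlib
import Cfsg.Agent.Dickson.Basic

/-!
# Involutions of orthogonal groups in characteristic two

Conjugacy in the orthogonal group equals conjugacy under the isometries of the polar form, and classes split
in the commutator subgroup only when the fixed space is totally singular.
-/

set_option autoImplicit false

namespace CfsgLib.Dickson

open Module QuadraticMap

variable {F V : Type*} [Field F] [CharP F 2] [AddCommGroup V] [Module F V] [FiniteDimensional F V]
  {Q : QuadraticForm F V}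

omit [FiniteDimensional F V] in
theorem involution_apply {t : orth Q} (ht : t * t = 1) (v : V) :
    (t : V ≃ₗ[F] V) ((t : V ≃ₗ[F] V) v) = v := by
  rw [← mul_apply, ht]; rfl

omit [FiniteDimensional F V] in
theorem disp_disp {t : orth Q} (ht : t * t = 1) (v : V) : disp t (disp t v) = 0 := by
  rw [disp_apply, disp_apply, map_add, involution_apply ht, add_comm v]
  exact add_self (F := F) _

omit [FiniteDimensional F V] in
theorem polar_disp_left {t : orth Q} (ht : t * t = 1) (u v : V) :
    polar Q (disp t u) v = polar Q u (disp t v) := by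
  rw [disp_apply, disp_apply, QuadraticMap.polar_add_left, QuadraticMap.polar_add_right]
  congr 1
  conv_lhs => rw [← involution_apply ht v]
  exact polar_map t u _

omit [FiniteDimensional F V] in
theorem map_disp (t : orth Q) (u : V) : Q (disp t u) = polar Q u (disp t u) := by
  rw [disp_apply, map_add_eq, t.2, CharTwo.add_self_eq_zero, zero_add, QuadraticMap.polar_add_right,
    polar_self_zero, add_zero, polar_comm]

/-- Involutions conjugate under an isometry of the polar form are conjugate in the orthogonal group. -/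
theorem isConj_of_polar_conj (hQ : (polarBilin Q).Nondegenerate) {t s : orth Q}
    (ht : t * t = 1) (hs : s * s = 1) (k : V ≃ₗ[F] V)
    (hk : ∀ u v, polar Q (k u) (k v) = polar Q u v)
    (hts : ∀ v, k ((t : V ≃ₗ[F] V) v) = (s : V ≃ₗ[F] V) (k v)) : IsConj t s := by
  have hkN : ∀ v, k (disp t v) = disp s (k v) := fun v => by
    rw [disp_apply, disp_apply, map_add, hts]
  have hmap : (LinearMap.range (disp t)).map (k : V →ₗ[F] V) = LinearMap.range (disp s) := by
    apply le_antisymm
    · rintro _ ⟨_, ⟨u, rfl⟩, rfl⟩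
      exact ⟨k u, (hkN u).symm⟩
    · rintro _ ⟨u, rfl⟩
      exact ⟨disp t (k.symm u), LinearMap.mem_range_self _ _, by rw [LinearEquiv.coe_coe, hkN, k.apply_symm_apply]⟩
  let φ : LinearMap.range (disp t) ≃ₗ[F] LinearMap.range (disp s) := k.ofSubmodules _ _ hmap
  have hφ : ∀ x, (φ x : V) = k (x : V) := fun x => rfl
  obtain ⟨g, hg, hgφ⟩ := CfsgLib.Forms.witt_quadratic Q hQ _ _ φ (fun x => by
    obtain ⟨_, u, rfl⟩ := x
    rw [hφ, hkN, map_disp, ← hkN, hk, ← map_disp])
  refine isConj_iff.2 ⟨⟨g, hg⟩, mul_inv_eq_iff_eq_mul.2 (Subtype.ext (LinearEquiv.ext fun u => ?_))⟩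
  rw [mul_apply, mul_apply]
  have hgN : g (disp t u) = disp s (g u) := by
    rw [← sub_eq_zero]
    refine hQ.1 _ fun z => ?_
    show polar Q (g (disp t u) - disp s (g u)) z = 0
    rw [QuadraticMap.polar_sub_left, sub_eq_zero]
    obtain ⟨z, rfl⟩ := k.surjective z
    have h1 : ∀ v, g (disp t v) = k (disp t v) := fun v => hgφ ⟨_, LinearMap.mem_range_self _ v⟩
    rw [h1, hk, polar_disp_left hs, ← hkN, ← h1, polar_disp_left ht]
    exact (polar_map (⟨g, hg⟩ : orth Q) u (disp t z)).symm
  rw [disp_apply, disp_apply, map_add] at hgN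
  exact add_right_cancel hgN

/-- An element commuting with `t` of odd parity, from a non-singular fixed vector. -/
theorem exists_odd_commute [Finite F] (hQ : (polarBilin Q).Nondegenerate) (t : orth Q) {x : V}
    (hx : disp t x = 0) (hQx : Q x ≠ 0) : ∃ c : orth Q, c * t = t * c ∧ parity c = 1 := by
  obtain ⟨a, ha⟩ := exists_scaled hQx
  refine ⟨refl _ ha, ?_, parity_refl hQ _ ha⟩
  have h := conj_refl t (a • x) ha
  have hfix : (t : V ≃ₗ[F] V) (a • x) = a • x :=
    (add_eq_zero_iff (F := F)).1 (by rw [← disp_apply, map_smul, hx, smul_zero])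
  simp only [hfix] at h
  exact (mul_inv_eq_iff_eq_mul.1 h).symm

/-- Either there is a non-singular fixed vector, or the involution has maximal singular displacement space. -/
theorem exists_fixed_nonsingular (hQ : (polarBilin Q).Nondegenerate) {t : orth Q} (ht : t * t = 1)
    {m : ℕ} (hm : finrank F V = 2 * m)
    (h : ¬ (finrank F (LinearMap.range (disp t)) = m ∧ ∀ v, Q (disp t v) = 0)) :
    ∃ x, disp t x = 0 ∧ Q x ≠ 0 := by
  by_contra hne
  have hz : ∀ x ∈ LinearMap.ker (disp t), Q x = 0 := fun x hx => not_not.1 fun hx' => hne ⟨x, hx, hx'⟩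
  have hle : LinearMap.range (disp t) ≤ LinearMap.ker (disp t) := by
    rintro _ ⟨u, rfl⟩; exact disp_disp ht u
  have hge : LinearMap.ker (disp t) ≤ LinearMap.range (disp t) := by
    intro x hx
    by_contra hxR
    obtain ⟨k, hk, hkx⟩ := exists_fixed_polar_eq_one hQ t hxR
    simp only [polar, hz _ hx, hz _ hk, hz _ (Submodule.add_mem _ (LinearMap.mem_ker.2 hk) hx)] at hkx
    simp at hkx
  have h1 := LinearMap.finrank_range_add_finrank_ker (disp t)
  rw [le_antisymm hge hle] at h1
  exact h ⟨by omega, fun v => hz _ (hle (LinearMap.mem_range_self _ v))⟩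

/-- In the generic case conjugate involutions are conjugate under the commutator subgroup. -/
theorem exists_commutator_conj' [Finite F] (hQ : (polarBilin Q).Nondegenerate) (hG : ReflGen Q)
    (hpos : 0 < finrank F V) {t s : orth Q} {x : V} (hx : disp t x = 0) (hQx : Q x ≠ 0) (hts : IsConj t s) :
    ∃ g ∈ commutator (orth Q), g * t * g⁻¹ = s := by
  obtain ⟨g, hg⟩ := isConj_iff.1 hts
  obtain ⟨c, hc, hpc⟩ := exists_odd_commute hQ t hx hQx
  by_cases hp : parity g = 0
  · exact ⟨g, (mem_commutator_iff' hQ hG hpos g).2 hp, hg⟩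
  refine ⟨g * c, (mem_commutator_iff' hQ hG hpos _).2 ?_, ?_⟩
  · rw [parity_mul' hQ hG, hpc]
    revert hp
    generalize parity g = p
    revert p; decide
  · rw [mul_inv_rev, ← mul_assoc, mul_assoc g c t, hc, ← mul_assoc, mul_inv_cancel_right]
    exact hg

theorem exists_commutator_conj [Finite F] (hQ : (polarBilin Q).Nondegenerate) (h5 : 5 ≤ finrank F V)
    {t s : orth Q} {x : V} (hx : disp t x = 0) (hQx : Q x ≠ 0) (hts : IsConj t s) :
    ∃ g ∈ commutator (orth Q), g * t * g⁻¹ = s :=
  exists_commutator_conj' hQ (Or.inl h5) (by omega) hx hQx hts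

/-- A totally singular subspace of half the dimension. -/
def IsLag (Q : QuadraticForm F V) (m : ℕ) (U : Submodule F V) : Prop :=
  finrank F U = m ∧ ∀ v ∈ U, Q v = 0

omit [FiniteDimensional F V] in
theorem IsLag.polar_eq {m : ℕ} {U : Submodule F V} (hU : IsLag Q m U) {u v : V} (hu : u ∈ U) (hv : v ∈ U) :
    polar Q u v = 0 := by
  simp [polar, hU.2 _ hu, hU.2 _ hv, hU.2 _ (U.add_mem hu hv)]

theorem IsLag.map {m : ℕ} {U : Submodule F V} (hU : IsLag Q m U) (g : orth Q) :
    IsLag Q m (U.map ((g : V ≃ₗ[F] V) : V →ₗ[F] V)) := by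
  refine ⟨by rw [LinearEquiv.finrank_map_eq (g : V ≃ₗ[F] V)]; exact hU.1, ?_⟩
  rintro _ ⟨u, hu, rfl⟩
  show Q ((g : V ≃ₗ[F] V) u) = 0
  rw [g.2]; exact hU.2 u hu

/-- A reflection changes the parity of the intersection of two Lagrangian subspaces. -/
theorem finrank_inf_refl (hQ : (polarBilin Q).Nondegenerate) {m : ℕ} (hm : finrank F V = 2 * m)
    {W U : Submodule F V} (hW : IsLag Q m W) (hU : IsLag Q m U) (x : V) (hx : Q x = 1) :
    (finrank F ↥(W ⊓ U.map (((refl x hx : orth Q) : V ≃ₗ[F] V) : V →ₗ[F] V)) : ZMod 2) =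
      finrank F ↥(W ⊓ U) + 1 := by
  set D := W ⊓ U with hD
  set φ := polarBilin Q x with hφ
  set M := U.map (((refl x hx : orth Q) : V ≃ₗ[F] V) : V →ₗ[F] V) with hM
  have hmem : ∀ v, v ∈ M ↔ ∃ u ∈ U, u + polar Q x u • x = v := fun v => by
    simp only [hM, Submodule.mem_map, LinearEquiv.coe_coe, refl_apply]
  by_cases hA : D ≤ LinearMap.ker φ
  · -- the intersection grows
    have hspan : LinearMap.BilinForm.orthogonal (polarBilin Q) D = W ⊔ U := by
      symm
      refine Submodule.eq_of_le_of_finrank_le (sup_le ?_ ?_) ?_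
      · intro w hw d hd
        exact hW.polar_eq hd.1 hw
      · intro u hu d hd
        exact hU.polar_eq hd.2 hu
      · rw [LinearMap.BilinForm.finrank_orthogonal hQ]
        have := Submodule.finrank_sup_add_finrank_inf_eq W U
        rw [← hD, hW.1, hU.1] at this
        omega
    have hxmem : x ∈ W ⊔ U := by
      rw [← hspan]
      intro d hd
      have := hA hd
      show polar Q d x = 0
      rw [polar_comm]
      exact this
    obtain ⟨w, hw, u0, hu0, hx'⟩ := Submodule.mem_sup.1 hxmem
    have h1 : polar Q w u0 = 1 := by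
      have h := map_add_eq (Q := Q) w u0
      rw [hx', hx, hW.2 w hw, hU.2 u0 hu0, zero_add, zero_add] at h
      exact h.symm
    have h2 : polar Q x u0 = 1 := by
      rw [← hx', QuadraticMap.polar_add_left, h1, hU.polar_eq hu0 hu0, add_zero]
    have hwu : w = u0 + x := by
      rw [← hx', add_comm w, ← add_assoc, add_self (F := F), zero_add]
    have hwU : w ∉ U := fun h => by
      have := hU.polar_eq h hu0
      rw [h1] at this
      exact one_ne_zero this
    have hw0 : w ≠ 0 := fun h => hwU (h ▸ U.zero_mem)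
    have heq : W ⊓ M = D ⊔ Submodule.span F {w} := by
      apply le_antisymm
      · rintro v ⟨hvW, hvM⟩
        obtain ⟨u, hu, rfl⟩ := (hmem _).1 hvM
        set c := polar Q x u
        have : u + c • x = (u + c • u0) + c • w := by rw [← hx', smul_add]; abel
        rw [this] at hvW ⊢
        refine Submodule.add_mem_sup ⟨?_, U.add_mem hu (U.smul_mem c hu0)⟩
          (Submodule.smul_mem _ _ (Submodule.mem_span_singleton_self w))
        simpa using W.sub_mem hvW (W.smul_mem c hw)
      · refine sup_le ?_ ((Submodule.span_singleton_le_iff_mem _ _).2 ⟨hw, ?_⟩)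
        · intro d hd
          refine ⟨hd.1, (hmem _).2 ⟨d, hd.2, ?_⟩⟩
          have h0 : polar Q x d = 0 := hA hd
          rw [h0, zero_smul, add_zero]
        · exact (hmem _).2 ⟨u0, hu0, by rw [h2, one_smul, ← hwu]⟩
    have h := Submodule.finrank_sup_add_finrank_inf_eq D (Submodule.span F {w})
    rw [disjoint_iff.1 (Submodule.disjoint_span_singleton_of_notMem fun h : w ∈ D => hwU h.2), finrank_bot,
      finrank_span_singleton hw0, ← heq, add_zero] at h
    rw [h, Nat.cast_add, Nat.cast_one]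
  · obtain ⟨a, ha, haφ⟩ := SetLike.not_le_iff_exists.1 hA
    have haφ' : polar Q x a ≠ 0 := haφ
    have heq : W ⊓ M = D ⊓ LinearMap.ker φ := by
      ext v
      constructor
      · rintro ⟨hvW, hvM⟩
        obtain ⟨u, hu, rfl⟩ := (hmem _).1 hvM
        have h := hW.polar_eq hvW ha.1
        rw [QuadraticMap.polar_add_left, QuadraticMap.polar_smul_left, hU.polar_eq hu ha.2, zero_add,
          smul_eq_mul, mul_eq_zero] at h
        have hc := h.resolve_right haφ'
        rw [hc, zero_smul, add_zero] at hvW ⊢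
        exact ⟨⟨hvW, hu⟩, hc⟩
      · rintro ⟨⟨hvW, hvU⟩, hvφ⟩
        refine ⟨hvW, (hmem _).2 ⟨v, hvU, ?_⟩⟩
        rw [show polar Q x v = 0 from hvφ, zero_smul, add_zero]
    have h := LinearMap.finrank_range_add_finrank_ker (φ.domRestrict D)
    have e : LinearMap.range (φ.domRestrict D) = ⊤ := by
      rw [eq_top_iff]
      intro r _
      refine ⟨(r * (φ a)⁻¹) • ⟨a, ha⟩, ?_⟩
      rw [map_smul, LinearMap.domRestrict_apply, smul_eq_mul, mul_assoc, inv_mul_cancel₀ (show φ a ≠ 0 from haφ'), mul_one]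
    have e2 : (LinearMap.ker (φ.domRestrict D)).map D.subtype = D ⊓ LinearMap.ker φ := by
      ext v
      constructor
      · rintro ⟨d, hd, rfl⟩; exact ⟨d.2, hd⟩
      · rintro ⟨hvD, hv⟩; exact ⟨⟨v, hvD⟩, hv, rfl⟩
    rw [e, finrank_top, Module.finrank_self, ← Submodule.finrank_map_subtype_eq, e2, ← heq] at h
    rw [← h, Nat.cast_add, Nat.cast_one, add_comm (1 : ZMod 2), add_assoc, CharTwo.add_self_eq_zero,
      add_zero]

/-- The parity of an isometry measured on Lagrangian subspaces. -/
theorem finrank_inf_map_lag' [Finite F] (hQ : (polarBilin Q).Nondegenerate) (hG : ReflGen Q) {m : ℕ}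
    (hm : finrank F V = 2 * m) {W : Submodule F V} (hW : IsLag Q m W) (g : orth Q) :
    (finrank F ↥(W ⊓ W.map ((g : V ≃ₗ[F] V) : V →ₗ[F] V)) : ZMod 2) = m + parity g := by
  suffices ∀ U, IsLag Q m U → (finrank F ↥(W ⊓ U.map ((g : V ≃ₗ[F] V) : V →ₗ[F] V)) : ZMod 2) =
      finrank F ↥(W ⊓ U) + parity g by
    have h := this W hW
    rwa [inf_idem, hW.1] at h
  refine Subgroup.closure_induction (p := fun (g : orth Q) _ => ∀ U, IsLag Q m U →
      (finrank F ↥(W ⊓ U.map ((g : V ≃ₗ[F] V) : V →ₗ[F] V)) : ZMod 2) = finrank F ↥(W ⊓ U) + parity g)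
    ?_ ?_ ?_ ?_ (show g ∈ reflGroup Q by rw [reflGroup_eq_top' hQ hG]; trivial)
  · rintro _ ⟨x, hx, rfl⟩ U hU
    rw [parity_refl hQ x hx]
    exact finrank_inf_refl hQ hm hW hU x hx
  · intro U _
    have e : U.map (((1 : orth Q) : V ≃ₗ[F] V) : V →ₗ[F] V) = U := by
      ext v; simp
    rw [parity_one, add_zero, e]
  · intro a b _ _ ha hb U hU
    have e : U.map (((a * b : orth Q) : V ≃ₗ[F] V) : V →ₗ[F] V) =
        (U.map ((b : V ≃ₗ[F] V) : V →ₗ[F] V)).map ((a : V ≃ₗ[F] V) : V →ₗ[F] V) := by
      rw [← Submodule.map_comp]; rfl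
    rw [e, ha _ (hU.map b), hb U hU, parity_mul' hQ hG]; ring
  · intro a _ ha U hU
    have h := ha _ (hU.map a⁻¹)
    have e : (U.map (((a⁻¹ : orth Q) : V ≃ₗ[F] V) : V →ₗ[F] V)).map ((a : V ≃ₗ[F] V) : V →ₗ[F] V) = U := by
      rw [← Submodule.map_comp]
      conv_rhs => rw [← Submodule.map_id U]
      congr 1
      refine LinearMap.ext fun v => ?_
      show (a : V ≃ₗ[F] V) (((a⁻¹ : orth Q) : V ≃ₗ[F] V) v) = v
      rw [← mul_apply, mul_inv_cancel]; rfl
    rw [e] at h
    rw [h, parity_inv' hQ hG, add_assoc, CharTwo.add_self_eq_zero, add_zero]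

theorem finrank_inf_map_lag [Finite F] (hQ : (polarBilin Q).Nondegenerate) (h5 : 5 ≤ finrank F V) {m : ℕ}
    (hm : finrank F V = 2 * m) {W : Submodule F V} (hW : IsLag Q m W) (g : orth Q) :
    (finrank F ↥(W ⊓ W.map ((g : V ≃ₗ[F] V) : V →ₗ[F] V)) : ZMod 2) = m + parity g :=
  finrank_inf_map_lag' hQ (Or.inl h5) hm hW g

end CfsgLib.Dickson
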