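import Mathlib
import Cfsg.Prelude.Def_Classical
import Cfsg.Agent.Dickson.Involutions

/-!
# Bridge to `Cfsg.isometryGroup`, and the standard forms
-/

set_option autoImplicit false

namespace CfsgLib.Dickson

open Module QuadraticMap
open scoped Matrix

variable {F : Type*} [Field F] {ι : Type} [Fintype ι] [DecidableEq ι]

/-- `Cfsg.isometryGroup` as a group of linear automorphisms. -/
noncomputable def toOrth (Q : QuadraticForm F (ι → F)) : ↥(Cfsg.isometryGroup F ⇑Q) ≃* orth Q where
  toFun g := ⟨(LinearMap.GeneralLinearGroup.generalLinearEquiv F (ι → F))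
      (Matrix.GeneralLinearGroup.toLin (g : GL ι F)), fun v => g.2 v v⟩
  invFun g := ⟨Matrix.GeneralLinearGroup.toLin.symm
      ((LinearMap.GeneralLinearGroup.generalLinearEquiv F (ι → F)).symm (g : (ι → F) ≃ₗ[F] (ι → F))),
    fun u _ => by
      show Q (LinearMap.toMatrix' ((g : (ι → F) ≃ₗ[F] (ι → F)) : (ι → F) →ₗ[F] (ι → F)) *ᵥ u) = Q u
      rw [LinearMap.toMatrix'_mulVec]
      exact g.2 u⟩
  left_inv g := by apply Subtype.ext; simp
  right_inv g := by apply Subtype.ext; simp
  map_mul' g h := by apply Subtype.ext; simp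

theorem toOrth_apply (Q : QuadraticForm F (ι → F)) (g : ↥(Cfsg.isometryGroup F ⇑Q)) (v : ι → F) :
    ((toOrth Q g : orth Q) : (ι → F) ≃ₗ[F] (ι → F)) v = ((g : GL ι F) : Matrix ι ι F) *ᵥ v := rfl

theorem disp_toOrth [CharP F 2] (Q : QuadraticForm F (ι → F)) (g : ↥(Cfsg.isometryGroup F ⇑Q)) :
    disp (toOrth Q g) = Matrix.toLin' (((g : GL ι F) : Matrix ι ι F) - 1) := by
  refine LinearMap.ext fun v => ?_
  rw [disp_apply, toOrth_apply, Matrix.toLin'_apply, Matrix.sub_mulVec, Matrix.one_mulVec]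
  funext i
  exact (CharTwo.sub_eq_add _ _).symm

theorem rank_eq_finrank_disp [CharP F 2] (Q : QuadraticForm F (ι → F)) (g : ↥(Cfsg.isometryGroup F ⇑Q)) :
    (((g : GL ι F) : Matrix ι ι F) - 1).rank = finrank F (LinearMap.range (disp (toOrth Q g))) := by
  rw [disp_toOrth]; rfl

theorem mul_self_toOrth (Q : QuadraticForm F (ι → F)) {g : ↥(Cfsg.isometryGroup F ⇑Q)} (hg : orderOf g = 2) :
    toOrth Q g * toOrth Q g = 1 := by
  rw [← map_mul, ← pow_two, ← hg, pow_orderOf_eq_one, map_one]

variable [Finite F] [CharP F 2]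

theorem mem_Omega_iff (Q : QuadraticForm F (ι → F)) (hQ : (polarBilin Q).Nondegenerate)
    (h5 : 5 ≤ Fintype.card ι) (g : ↥(Cfsg.isometryGroup F ⇑Q)) :
    g ∈ Cfsg.Omega F ⇑Q ↔ Even (((g : GL ι F) : Matrix ι ι F) - 1).rank := by
  have hmap : (commutator ↥(Cfsg.isometryGroup F ⇑Q)).map (toOrth Q).toMonoidHom = commutator (orth Q) := by
    rw [commutator_def, commutator_def, Subgroup.map_commutator,
      Subgroup.map_top_of_surjective _ (toOrth Q).surjective]
  have h1 : g ∈ Cfsg.Omega F ⇑Q ↔ toOrth Q g ∈ commutator (orth Q) := by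
    rw [← hmap]
    exact ⟨fun h => Subgroup.mem_map_of_mem _ h, fun ⟨a, ha, hag⟩ => (toOrth Q).injective hag ▸ ha⟩
  rw [h1, mem_commutator_iff hQ (by rwa [Module.finrank_fintype_fun_eq_card]), rank_eq_finrank_disp,
    ← ZMod.natCast_eq_zero_iff_even]
  rfl

/-- Conjugacy in the isometry group agrees with conjugacy under the stabiliser of the polar function. -/
theorem isConj_iff_polar (Q : QuadraticForm F (ι → F)) (hQ : (polarBilin Q).Nondegenerate)
    (t s : ↥(Cfsg.isometryGroup F ⇑Q)) (ht : orderOf t = 2) (hs : orderOf s = 2) :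
    IsConj t s ↔ ∃ g ∈ Cfsg.preserving (Units.coeHom (Matrix ι ι F)) (fun u v => Q (u + v) - Q u - Q v),
      g * (t : GL ι F) * g⁻¹ = (s : GL ι F) := by
  constructor
  · intro h
    obtain ⟨c, hc⟩ := isConj_iff.1 h
    refine ⟨(c : GL ι F), fun u v => ?_, by rw [← hc]; simp [mul_assoc]⟩
    show polar Q ((toOrth Q c : (ι → F) ≃ₗ[F] (ι → F)) u) ((toOrth Q c : (ι → F) ≃ₗ[F] (ι → F)) v) = polar Q u v
    exact polar_map _ u v
  · rintro ⟨g, hg, hgts⟩
    have hc : IsConj (toOrth Q t) (toOrth Q s) := by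
      refine isConj_of_polar_conj hQ (mul_self_toOrth Q ht) (mul_self_toOrth Q hs)
        ((LinearMap.GeneralLinearGroup.generalLinearEquiv F (ι → F)) (Matrix.GeneralLinearGroup.toLin g))
        (fun u v => hg u v) (fun v => ?_)
      rw [mul_inv_eq_iff_eq_mul] at hgts
      show (g : Matrix ι ι F) *ᵥ (((t : GL ι F) : Matrix ι ι F) *ᵥ v) =
        ((s : GL ι F) : Matrix ι ι F) *ᵥ ((g : Matrix ι ι F) *ᵥ v)
      rw [Matrix.mulVec_mulVec, Matrix.mulVec_mulVec, ← Units.val_mul, hgts, Units.val_mul]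
    obtain ⟨c, hc⟩ := isConj_iff.1 hc
    refine isConj_iff.2 ⟨(toOrth Q).symm c, (toOrth Q).injective ?_⟩
    simp [hc]

/-- The split form as a `QuadraticForm`. -/
noncomputable def plusForm (m : ℕ) (F : Type*) [Field F] : QuadraticForm F (Fin m ⊕ Fin m → F) :=
  ∑ i : Fin m, QuadraticMap.linMulLin (LinearMap.proj (Sum.inl i)) (LinearMap.proj (Sum.inr i))

omit [Finite F] [CharP F 2] in
theorem plusForm_coe (m : ℕ) : ⇑(plusForm m F) = Cfsg.quadFormPlus m F := by
  funext v
  simp [plusForm, Cfsg.quadFormPlus]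

omit [Finite F] [CharP F 2] in
theorem plusForm_nondegenerate (m : ℕ) : (polarBilin (plusForm m F)).Nondegenerate := by
  have key : ∀ u v, polarBilin (plusForm m F) u v =
      ∑ i : Fin m, (u (.inl i) * v (.inr i) + v (.inl i) * u (.inr i)) := fun u v => by
    show polar (plusForm m F) u v = _
    simp only [polar, plusForm_coe, Cfsg.quadFormPlus, Pi.add_apply, ← Finset.sum_sub_distrib]
    exact Finset.sum_congr rfl fun i _ => by ring
  have h : ∀ u, (∀ v, polarBilin (plusForm m F) u v = 0) → u = 0 := fun u hu => by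
    funext j
    rcases j with i | i
    · have := hu (Pi.single (.inr i) 1)
      rw [key, Finset.sum_eq_single i (fun b _ hb => by simp [hb]) (by simp)] at this
      simpa using this
    · have := hu (Pi.single (.inl i) 1)
      rw [key, Finset.sum_eq_single i (fun b _ hb => by simp [hb]) (by simp)] at this
      simpa using this
  refine ⟨h, fun v hv => h v fun u => ?_⟩
  have := hv u
  rw [key] at this ⊢
  rw [← this]
  exact Finset.sum_congr rfl fun i _ => by ring

/-- The form `x·y + z₁² + c z₁ z₂ + d z₂²` as a `QuadraticForm`. -/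
noncomputable def minusForm (m : ℕ) (F : Type*) [Field F] (c d : F) :
    QuadraticForm F ((Fin m ⊕ Fin m) ⊕ Fin 2 → F) :=
  (∑ i : Fin m, QuadraticMap.linMulLin (LinearMap.proj (Sum.inl (Sum.inl i))) (LinearMap.proj (Sum.inl (Sum.inr i))))
    + (QuadraticMap.linMulLin (LinearMap.proj (Sum.inr 0)) (LinearMap.proj (Sum.inr 0))
      + c • QuadraticMap.linMulLin (LinearMap.proj (Sum.inr 0)) (LinearMap.proj (Sum.inr 1))
      + d • QuadraticMap.linMulLin (LinearMap.proj (Sum.inr 1)) (LinearMap.proj (Sum.inr 1)))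

omit [Finite F] [CharP F 2] in
theorem minusForm_coe (m : ℕ) (c d : F) : ⇑(minusForm m F c d) = Cfsg.quadFormMinus m F c d := by
  funext v
  simp [minusForm, Cfsg.quadFormMinus]
  ring

theorem minus_coeff_ne_zero {c d : F}
    (hcd : ∀ z₁ z₂ : F, z₁ ^ 2 + c * z₁ * z₂ + d * z₂ ^ 2 = 0 → z₁ = 0 ∧ z₂ = 0) : c ≠ 0 := by
  rintro rfl
  haveI : Fact (Nat.Prime 2) := ⟨Nat.prime_two⟩
  have h := hcd ((frobeniusEquiv F 2).symm d) 1 (by
    rw [frobeniusEquiv_symm_pow_p (R := F) 2, zero_mul, zero_mul, add_zero, one_pow, mul_one,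
      CharTwo.add_self_eq_zero])
  exact one_ne_zero h.2

theorem minusForm_nondegenerate (m : ℕ) {c d : F}
    (hcd : ∀ z₁ z₂ : F, z₁ ^ 2 + c * z₁ * z₂ + d * z₂ ^ 2 = 0 → z₁ = 0 ∧ z₂ = 0) :
    (polarBilin (minusForm m F c d)).Nondegenerate := by
  have hc := minus_coeff_ne_zero hcd
  have key : ∀ u v, polarBilin (minusForm m F c d) u v =
      (∑ i : Fin m, (u (.inl (.inl i)) * v (.inl (.inr i)) + v (.inl (.inl i)) * u (.inl (.inr i))))
        + c * (u (.inr 0) * v (.inr 1) + v (.inr 0) * u (.inr 1)) := fun u v => by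
    show polar (minusForm m F c d) u v = _
    simp only [polar, minusForm_coe, Cfsg.quadFormMinus, Pi.add_apply, add_mul, mul_add,
      Finset.sum_add_distrib]
    linear_combination (u (.inr 0) * v (.inr 0) + d * (u (.inr 1) * v (.inr 1))) * (CharTwo.two_eq_zero : (2 : F) = 0)
  have h : ∀ u, (∀ v, polarBilin (minusForm m F c d) u v = 0) → u = 0 := fun u hu => by
    funext j
    rcases j with (i | i) | i
    · have := hu (Pi.single (.inl (.inr i)) 1)
      rw [key, Finset.sum_eq_single i (fun b _ hb => by simp [hb]) (by simp)] at this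
      simpa using this
    · have := hu (Pi.single (.inl (.inl i)) 1)
      rw [key, Finset.sum_eq_single i (fun b _ hb => by simp [hb]) (by simp)] at this
      simpa using this
    · fin_cases i
      · have := hu (Pi.single (.inr 1) 1)
        rw [key] at this
        simpa [hc] using this
      · have := hu (Pi.single (.inr 0) 1)
        rw [key] at this
        simpa [hc] using this
  refine ⟨h, fun v hv => h v fun u => ?_⟩
  have := hv u
  rw [key] at this ⊢
  rw [← this]
  congr 1
  · exact Finset.sum_congr rfl fun i _ => by ring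
  · ring

omit [Finite F] [CharP F 2] in
/-- The minus form has no totally singular subspace of dimension `m + 1`. -/
theorem minus_no_lag (m : ℕ) {c d : F}
    (hcd : ∀ z₁ z₂ : F, z₁ ^ 2 + c * z₁ * z₂ + d * z₂ ^ 2 = 0 → z₁ = 0 ∧ z₂ = 0)
    (W : Submodule F ((Fin m ⊕ Fin m) ⊕ Fin 2 → F)) (hW : ∀ v ∈ W, minusForm m F c d v = 0) :
    finrank F W ≤ m := by
  let Y : W →ₗ[F] (Fin m → F) :=
    (LinearMap.pi fun i : Fin m => LinearMap.proj (Sum.inl (Sum.inr i))).comp W.subtype
  let X : LinearMap.ker Y →ₗ[F] (Fin m → F) :=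
    ((LinearMap.pi fun i : Fin m => LinearMap.proj (Sum.inl (Sum.inl i))).comp W.subtype).comp (LinearMap.ker Y).subtype
  have hker : ∀ u : LinearMap.ker Y, ∀ i, u.1.1 (.inl (.inr i)) = 0 := fun u i => congrFun u.2 i
  have hz : ∀ u : LinearMap.ker Y, u.1.1 (.inr 0) = 0 ∧ u.1.1 (.inr 1) = 0 := fun u => by
    apply hcd
    have h := hW _ u.1.2
    simpa [minusForm_coe, Cfsg.quadFormMinus, hker u] using h
  have hXinj : Function.Injective X := by
    intro u u' huv
    apply Subtype.ext
    apply Subtype.ext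
    funext j
    rcases j with (i | i) | i
    · exact congrFun huv i
    · rw [hker, hker]
    · fin_cases i
      · exact (hz u).1.trans (hz u').1.symm
      · exact (hz u).2.trans (hz u').2.symm
  have horth : ∀ (u : LinearMap.ker Y) (w : W), ∑ i : Fin m, X u i * Y w i = 0 := by
    intro u w
    have h := hW _ (W.add_mem u.1.2 w.2)
    have h1 := hW _ w.2
    simp only [minusForm_coe, Cfsg.quadFormMinus, Pi.add_apply, (hz u).1, (hz u).2, zero_add, hker u,
      add_mul, Finset.sum_add_distrib] at h h1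
    show ∑ i : Fin m, u.1.1 (.inl (.inl i)) * w.1 (.inl (.inr i)) = 0
    linear_combination h - h1
  let ψ : (Fin m → F) →ₗ[F] Module.Dual F (LinearMap.range Y) :=
    (Matrix.toBilin' (1 : Matrix (Fin m) (Fin m) F)).compl₂ (LinearMap.range Y).subtype
  have hψ : ∀ a b, ψ a b = ∑ i, a i * (b : Fin m → F) i := fun a b => by
    show Matrix.toBilin' (1 : Matrix (Fin m) (Fin m) F) a (b : Fin m → F) = _
    rw [Matrix.toBilin'_apply']
    simp [dotProduct]
  have hψsurj : LinearMap.range ψ = ⊤ := by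
    rw [eq_top_iff]
    intro φ _
    obtain ⟨Φ, hΦ⟩ := LinearMap.exists_extend φ
    refine ⟨fun i => Φ (Pi.single i 1), LinearMap.ext fun b => ?_⟩
    rw [hψ, ← hΦ, LinearMap.comp_apply, Submodule.coe_subtype]
    conv_rhs => rw [pi_eq_sum_univ' (b : Fin m → F)]
    simp [mul_comm]
  have h1 := LinearMap.finrank_range_add_finrank_ker ψ
  rw [hψsurj, finrank_top, Subspace.dual_finrank_eq, Module.finrank_fin_fun] at h1
  have h2 : finrank F (LinearMap.ker Y) ≤ finrank F (LinearMap.ker ψ) := by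
    let X' : LinearMap.ker Y →ₗ[F] LinearMap.ker ψ := X.codRestrict _ fun u => by
      refine LinearMap.mem_ker.2 (LinearMap.ext fun b => ?_)
      obtain ⟨_, w, rfl⟩ := b
      rw [hψ]
      exact horth u w
    exact LinearMap.finrank_le_finrank_of_injective (f := X') fun u v e => hXinj (congrArg Subtype.val e)
  have h3 := LinearMap.finrank_range_add_finrank_ker Y
  omega

end CfsgLib.Dickson
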