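import Mathlib
import Cfsg.Agent.Dickson.Matrix

/-!
# Conjugacy classes of involutions in `Cfsg.Omega`, characteristic two
-/

set_option autoImplicit false

namespace CfsgLib.Dickson

open Module QuadraticMap
open scoped Matrix

variable {F : Type*} [Field F] [Finite F] [CharP F 2] {ι : Type} [Fintype ι] [DecidableEq ι]

omit [Finite F] in
theorem map_disp_matrix (Q : QuadraticForm F (ι → F)) (t : ↥(Cfsg.isometryGroup F ⇑Q)) (v : ι → F) :
    Q (v + ((t : GL ι F) : Matrix ι ι F) *ᵥ v) = Q (disp (toOrth Q t) v) := by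
  rw [disp_apply, toOrth_apply, add_comm]

theorem omega_conj_of_fixed (Q : QuadraticForm F (ι → F)) (hQ : (polarBilin Q).Nondegenerate) {m : ℕ}
    (hcard : Fintype.card ι = 2 * m) (h5 : 5 ≤ Fintype.card ι) (t s : ↥(Cfsg.isometryGroup F ⇑Q))
    (ht : orderOf t = 2) (hts : IsConj t s)
    (h : ¬ (finrank F (LinearMap.range (disp (toOrth Q t))) = m ∧ ∀ v, Q (disp (toOrth Q t) v) = 0)) :
    ∃ g ∈ Cfsg.Omega F ⇑Q, g * t * g⁻¹ = s := by
  have h5' : 5 ≤ finrank F (ι → F) := by rwa [Module.finrank_fintype_fun_eq_card]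
  obtain ⟨x, hx, hQx⟩ := exists_fixed_nonsingular hQ (mul_self_toOrth Q ht)
    (by rw [Module.finrank_fintype_fun_eq_card]; exact hcard) h
  obtain ⟨c, hc⟩ := isConj_iff.1 hts
  obtain ⟨g, hg, hgts⟩ := exists_commutator_conj hQ h5' (s := toOrth Q s) hx hQx
    (isConj_iff.2 ⟨toOrth Q c, by rw [← hc]; simp⟩)
  refine ⟨(toOrth Q).symm g, ?_, (toOrth Q).injective (by simp [hgts])⟩
  rw [mem_Omega_iff Q hQ h5, rank_eq_finrank_disp, MulEquiv.apply_symm_apply, ← ZMod.natCast_eq_zero_iff_even]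
  exact (mem_commutator_iff hQ h5' g).1 hg

theorem split_classes (Q : QuadraticForm F (ι → F)) (hQ : (polarBilin Q).Nondegenerate) {m : ℕ} (hm : 4 ≤ m)
    (hcard : Fintype.card ι = 2 * m) (t s : ↥(Cfsg.isometryGroup F ⇑Q))
    (ht : orderOf t = 2) (hs : orderOf s = 2) (htO : t ∈ Cfsg.Omega F ⇑Q) (hts : IsConj t s) :
    (¬ ((((t : GL ι F) : Matrix ι ι F) - 1).rank = m ∧
        ∀ v, Q (v + ((t : GL ι F) : Matrix ι ι F) *ᵥ v) = 0) → ∃ g ∈ Cfsg.Omega F ⇑Q, g * t * g⁻¹ = s) ∧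
    (((((t : GL ι F) : Matrix ι ι F) - 1).rank = m ∧
        ∀ v, Q (v + ((t : GL ι F) : Matrix ι ι F) *ᵥ v) = 0) →
      ((∃ g ∈ Cfsg.Omega F ⇑Q, g * t * g⁻¹ = s) ↔
        Even (finrank F ↥(LinearMap.range (Matrix.toLin' (((t : GL ι F) : Matrix ι ι F) - 1)) ⊓
          LinearMap.range (Matrix.toLin' (((s : GL ι F) : Matrix ι ι F) - 1)))))) := by
  have h5 : 5 ≤ Fintype.card ι := by omega
  have h5' : 5 ≤ finrank F (ι → F) := by rwa [Module.finrank_fintype_fun_eq_card]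
  have hdim : finrank F (ι → F) = 2 * m := by rwa [Module.finrank_fintype_fun_eq_card]
  simp only [rank_eq_finrank_disp, map_disp_matrix]
  refine ⟨fun h => omega_conj_of_fixed Q hQ hcard h5 t s ht hts h, fun ⟨hr, hsing⟩ => ?_⟩
  have hW : IsLag Q m (LinearMap.range (disp (toOrth Q t))) :=
    ⟨hr, fun v hv => by obtain ⟨u, rfl⟩ := hv; exact hsing u⟩
  have hmeven : ((m : ℕ) : ZMod 2) = 0 := by
    rw [mem_Omega_iff Q hQ h5, rank_eq_finrank_disp, hr] at htO
    exact (ZMod.natCast_eq_zero_iff_even).2 htO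
  have key : ∀ c, c * t * c⁻¹ = s →
      (finrank F ↥(LinearMap.range (disp (toOrth Q t)) ⊓ LinearMap.range (disp (toOrth Q s))) : ZMod 2) =
        parity (toOrth Q c) := by
    intro c hc
    have himg : LinearMap.range (disp (toOrth Q s)) = (LinearMap.range (disp (toOrth Q t))).map
        ((toOrth Q c : (ι → F) ≃ₗ[F] (ι → F)) : (ι → F) →ₗ[F] (ι → F)) := by
      have hcomm : ∀ v, (toOrth Q c : (ι → F) ≃ₗ[F] (ι → F)) (disp (toOrth Q t) v) =
          disp (toOrth Q s) ((toOrth Q c : (ι → F) ≃ₗ[F] (ι → F)) v) := fun v => by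
        rw [disp_apply, disp_apply, map_add, ← mul_apply, ← mul_apply, ← map_mul, ← map_mul,
          ← hc, inv_mul_cancel_right]
      apply le_antisymm
      · rintro _ ⟨u, rfl⟩
        obtain ⟨u, rfl⟩ := (toOrth Q c : (ι → F) ≃ₗ[F] (ι → F)).surjective u
        exact ⟨_, LinearMap.mem_range_self _ u, hcomm u⟩
      · rintro _ ⟨_, ⟨u, rfl⟩, rfl⟩
        exact ⟨_, (hcomm u).symm⟩
    rw [himg, finrank_inf_map_lag hQ h5' hdim hW, hmeven, zero_add]
  rw [← disp_toOrth Q t, ← disp_toOrth Q s]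
  constructor
  · rintro ⟨g, hg, hgts⟩
    rw [← ZMod.natCast_eq_zero_iff_even, key g hgts]
    rw [mem_Omega_iff Q hQ h5, rank_eq_finrank_disp] at hg
    exact (ZMod.natCast_eq_zero_iff_even).2 hg
  · intro hev
    obtain ⟨c, hc⟩ := isConj_iff.1 hts
    refine ⟨c, ?_, hc⟩
    rw [mem_Omega_iff Q hQ h5, rank_eq_finrank_disp, ← ZMod.natCast_eq_zero_iff_even]
    exact (key c hc).symm.trans ((ZMod.natCast_eq_zero_iff_even).2 hev)

end CfsgLib.Dickson
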